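import Groth.Agent.EtCoprodGE.Generic
import Groth.Agent.EtColim.TorsionPush
import Groth.Agent.EtShriekLib.Coproducts
import Groth.Agent.EtaleSite.Stalk
import Groth.Prelude.Def_DCoh2

/-!
# `Rf_*` on the étale sites and uniformly bounded below direct sums
-/

set_option autoImplicit false
set_option backward.isDefEq.respectTransparency false

universe u

open CategoryTheory CategoryTheory.Limits AlgebraicGeometry Opposite

attribute [local instance] HasDerivedCategory.standard

noncomputable section

namespace Groth.Agent.EtCoprodGE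

open Groth.Agent.EtColim.Sections Groth.Agent.EtColim.CohColim Groth.Agent.EtColim.TorsionPush
  Groth.Agent.CohDerLib.Acyclic

variable {X Y : Scheme.{u}} (f : X ⟶ Y) [QuasiCompact f] [QuasiSeparated f]

/-- `f_*` commutes with filtered colimits for quasi-compact quasi-separated `f`. -/
theorem preservesFilteredColimits_push : PreservesFilteredColimitsOfSize.{u, u} (EtCoh.push f) := by
  refine ⟨fun J _ _ => ⟨fun {D} => ?_⟩⟩
  let P := EtCoh.push f
  let c := colimit.cocone D
  let hc : IsColimit c := colimit.isColimit D
  let d := colimit.cocone (D ⋙ P)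
  let hd : IsColimit d := colimit.isColimit (D ⋙ P)
  let φ := colimit.post D P
  have hφ : ∀ (i : J) (V : Y.Etale) (t : EtCoh.sect (P.obj (D.obj i)) V),
      φ.hom.app (op V) ((d.ι.app i).hom.app (op V) t) = (P.map (c.ι.app i)).hom.app (op V) t := fun i V t =>
    congrArg (fun k : P.obj (D.obj i) ⟶ P.obj (colimit D) => k.hom.app (op V) t) (colimit.ι_post D P i)
  have hinj : ∀ (V : Y.Etale), IsAffine V.left → ∀ x, φ.hom.app (op V) x = 0 → x = 0 := fun V hV x hx => by
    obtain ⟨i, t, rfl⟩ := exists_rep (D ⋙ P) d hd V x
    rw [hφ] at hx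
    obtain ⟨_, _⟩ := compact_qs_bc f V
    obtain ⟨k, a, hk⟩ := exists_map_eq_zero D c hc ((EtCoh.bc f).obj V) t hx
    have : (d.ι.app i).hom.app (op V) t = (d.ι.app k).hom.app (op V) ((P.map (D.map a)).hom.app (op V) t) :=
      (congrArg (fun m : P.obj (D.obj i) ⟶ d.pt => m.hom.app (op V) t) (d.w a)).symm
    rw [this]
    exact (congrArg ((d.ι.app k).hom.app (op V)) hk).trans (map_zero _)
  haveI : Mono φ := by
    refine (sheafToPresheaf Y.smallEtaleTopology AddCommGrpCat.{u + 1}).mono_of_mono_map
      (@NatTrans.mono_of_mono_app _ _ _ _ _ _ _ fun W => (AddCommGrpCat.mono_iff_injective _).2 ?_)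
    refine (injective_iff_map_eq_zero (φ.hom.app W).hom).2 fun x hx => ?_
    choose V g hV v hv using fun w => affine_nbhd W.unop w
    refine ext_of_cover (d.pt) (ι := ULift.{u} W.unop.left) (fun w => g w.down)
      (fun w => ⟨⟨w⟩, v w, hv w⟩) x 0 fun w => ?_
    rw [map_zero]
    refine hinj _ (hV _) _ ?_
    refine (NatTrans.naturality_apply φ.hom (g w.down).op x).trans ?_
    exact (congrArg _ hx).trans (map_zero _)
  haveI : Epi φ := epi_of_affine φ fun V hV s => by
    obtain ⟨_, _⟩ := compact_qs_bc f V
    obtain ⟨i, t, ht⟩ := exists_rep D c hc ((EtCoh.bc f).obj V) s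
    exact ⟨(d.ι.app i).hom.app (op V) t, (hφ i V t).trans ht⟩
  haveI : IsIso φ := isIso_of_mono_of_epi φ
  exact preservesColimit_of_isIso_post P D

theorem preservesCoproducts_push (ι : Type u) : PreservesColimitsOfShape (Discrete ι) (EtCoh.push f) := by
  have := preservesFilteredColimits_push f
  have : (EtCoh.push f).Additive := (EtCoh.pullPushAdj f).right_adjoint_additive
  exact EtShriekLib.preservesCoproducts_of_finite_and_filtered.{u} (EtCoh.push f) ι

omit [QuasiCompact f] [QuasiSeparated f] in
/-- Coproducts of injectives are compactly acyclic. -/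
theorem isCompactAcyclic_sigma {ι : Type u} (J : ι → EtCoh.Ab X) (hJ : ∀ i, Injective (J i)) :
    IsCompactAcyclic (∐ J) := by
  classical
  let F := Discrete.functor J
  let C := CoproductsFromFiniteFiltered.liftToFinsetColimitCocone F
  have h := isCompactAcyclic_colimit (colimit.isColimit (CoproductsFromFiniteFiltered.liftToFinsetObj F))
    fun s => by
      have : ∀ x : s, Injective (F.obj x) := fun x => hJ _
      have : Injective (⨁ fun x : s => F.obj x) := inferInstance
      have : Injective ((CoproductsFromFiniteFiltered.liftToFinsetObj F).obj s) :=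
        Injective.of_iso (biproduct.isoCoproduct _) this
      exact isCompactAcyclic_of_injective _
  let e : (colimit.cocone (CoproductsFromFiniteFiltered.liftToFinsetObj F)).pt ≅ ∐ J :=
    C.isColimit.coconePointUniqueUpToIso (colimit.isColimit F)
  exact isCompactAcyclic_colimit (D := CoproductsFromFiniteFiltered.liftToFinsetObj F)
    (c := { pt := ∐ J, ι := (colimit.cocone (CoproductsFromFiniteFiltered.liftToFinsetObj F)).ι ≫ (Functor.const _).map e.hom })
    ((colimit.isColimit _).ofIsoColimit (Cocone.ext e fun s => rfl)) fun s => by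
      have : ∀ x : s, Injective (F.obj x) := fun x => hJ _
      have : Injective (⨁ fun x : s => F.obj x) := inferInstance
      have : Injective ((CoproductsFromFiniteFiltered.liftToFinsetObj F).obj s) :=
        Injective.of_iso (biproduct.isoCoproduct _) this
      exact isCompactAcyclic_of_injective _

theorem acy_sigma {ι : Type u} (J : ι → EtCoh.Ab X) (hJ : ∀ i, Injective (J i)) :
    Acy (EtCoh.push f) (∐ J) := fun i hi => by
  obtain ⟨k, rfl⟩ : ∃ k, i = k + 1 := ⟨i - 1, by omega⟩
  exact isZero_Rpush_of_isCompactAcyclic f k (isCompactAcyclic_sigma J hJ)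

/-- `Rf_*` commutes with uniformly bounded below direct sums. -/
theorem preservesColimit_RpushEt_of_isGE [DCoh.HasRpushEt X f] {ι : Type u} (K : ι → DCoh.DEt X) (n : ℤ)
    (hK : ∀ i, (K i).IsGE n) : PreservesColimit (Discrete.functor K) (DCoh.RpushEt X f) := by
  have : PreservesFiniteLimits (EtCoh.push f) :=
    ⟨fun K _ _ => ((EtCoh.pullPushAdj f).rightAdjoint_preservesLimits.preservesLimitsOfShape :
      PreservesLimitsOfShape K (EtCoh.push f))⟩
  have := preservesCoproducts_push f ι
  exact preservesColimit_RF_of_isGE (EtCoh.push f) (acy_sigma f) K n hK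

end Groth.Agent.EtCoprodGE
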