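import Groth.Agent.CohDerLib.AcyclicSums

/-!
# Right derived functors and uniformly bounded below coproducts

For a left exact functor `F` between Grothendieck abelian categories which preserves coproducts of a given
shape and such that coproducts of injectives are `F`-acyclic, the unbounded `RF` preserves uniformly
bounded below coproducts.
-/

set_option autoImplicit false

universe t w w' v v' u u'

open CategoryTheory CategoryTheory.Limits

namespace Groth.Agent.EtCoprodGE

open Groth.Agent.CohDerLib Groth.Agent.CohDerLib.AcyclicSums Groth.Agent.CohDerLib.Acyclic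

variable {A : Type u} [Category.{v} A] [Abelian A] [IsGrothendieckAbelian.{v} A] [HasDerivedCategory.{w} A]

/-- Coproducts in the derived category from coproducts of complexes. -/
theorem nonempty_isColimit_Q' {ι : Type t} [HasColimitsOfShape (Discrete ι) A] (C : ι → CochainComplex A ℤ) :
    Nonempty (IsColimit (Cofan.mk (DerivedCategory.Q.obj (∐ C)) fun i => DerivedCategory.Q.map (Sigma.ι C i))) :=
  DHA.KInj.nonempty_isColimit_Q (fun K => by
    obtain ⟨I, f, h₁, h₂, -⟩ := DHA.KInj.exists_resolution A K
    exact ⟨I, f, h₁, h₂⟩) C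

/-- An exact functor preserving coproducts preserves them on derived categories. -/
theorem preservesColimit_mapDerivedCategory {B : Type u'} [Category.{v'} B] [Abelian B]
    [IsGrothendieckAbelian.{v'} B] [HasDerivedCategory.{w'} B] (G : A ⥤ B) [G.Additive]
    [PreservesFiniteLimits G] [PreservesFiniteColimits G] {ι : Type t} [HasColimitsOfShape (Discrete ι) A]
    [HasColimitsOfShape (Discrete ι) B] [PreservesColimitsOfShape (Discrete ι) G] (K : ι → DerivedCategory A) :
    PreservesColimit (Discrete.functor K) G.mapDerivedCategory := by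
  let C := fun i => DerivedCategory.Q.objPreimage (K i)
  let GC := G.mapHomologicalComplex (ComplexShape.up ℤ)
  have : PreservesColimitsOfShape (Discrete ι) GC :=
    HomologicalComplex.preservesColimitsOfShape_of_eval GC fun i =>
      inferInstanceAs (PreservesColimitsOfShape (Discrete ι)
        (HomologicalComplex.eval A (ComplexShape.up ℤ) i ⋙ G))
  obtain ⟨hc⟩ := nonempty_isColimit_Q' C
  obtain ⟨h₁⟩ := nonempty_isColimit_Q' (fun i => GC.obj (C i))
  let eP := (coproductIsCoproduct fun i => GC.obj (C i)).coconePointUniqueUpToIso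
    (isColimitCofanMkObjOfIsColimit GC C _ (coproductIsCoproduct C))
  have h₃ : IsColimit (Cofan.mk (DerivedCategory.Q.obj (GC.obj (∐ C)))
      fun i => DerivedCategory.Q.map (GC.map (Sigma.ι C i))) :=
    h₁.ofIsoColimit (Cocone.ext (DerivedCategory.Q.mapIso eP) (fun ⟨i⟩ => by
      change DerivedCategory.Q.map _ ≫ DerivedCategory.Q.map eP.hom = _
      rw [← DerivedCategory.Q.map_comp]
      exact congrArg DerivedCategory.Q.map ((coproductIsCoproduct fun i => GC.obj (C i)).comp_coconePointUniqueUpToIso_hom _ ⟨i⟩)))
  let θ := G.mapDerivedCategoryFactors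
  have : PreservesColimit (Discrete.functor fun i => DerivedCategory.Q.obj (C i)) G.mapDerivedCategory := by
    refine preservesColimit_of_preserves_colimit_cocone hc ?_
    refine (isColimitMapCoconeCofanMkEquiv G.mapDerivedCategory (fun i => DerivedCategory.Q.obj (C i)) _).symm ?_
    let w : Discrete.functor (fun i => DerivedCategory.Q.obj (GC.obj (C i))) ≅
        Discrete.functor fun i => G.mapDerivedCategory.obj (DerivedCategory.Q.obj (C i)) :=
      Discrete.natIso fun i => (θ.app (C i.as)).symm
    refine IsColimit.equivOfNatIsoOfIso w _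
      (Cofan.mk (G.mapDerivedCategory.obj (DerivedCategory.Q.obj (∐ C)))
        fun i => G.mapDerivedCategory.map (DerivedCategory.Q.map (Sigma.ι C i))) ?_ h₃
    exact (Cocone.ext (θ.app (∐ C)).symm (fun ⟨i⟩ => by
        dsimp [w]
        rw [Category.assoc]
        exact (Iso.eq_inv_comp (θ.app (C i))).1 (θ.inv.naturality (Sigma.ι C i))))
  exact preservesColimit_of_iso_diagram G.mapDerivedCategory
    (Discrete.natIso fun i => DerivedCategory.Q.objObjPreimageIso (K i.as) :
      (Discrete.functor fun i => DerivedCategory.Q.obj (C i)) ≅ Discrete.functor K)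

variable {B : Type u'} [Category.{v'} B] [Abelian B] [IsGrothendieckAbelian.{v'} B] [HasDerivedCategory.{w'} B]
  (F : A ⥤ B) [F.Additive] [PreservesFiniteLimits F]
  [(QF F).HasRightDerivedFunctor (HomotopyCategory.quasiIso A (ComplexShape.up ℤ))]

/-- `RF` commutes with uniformly bounded below coproducts. -/
theorem preservesColimit_RF_of_isGE {ι : Type t} [HasColimitsOfShape (Discrete ι) A]
    [HasColimitsOfShape (Discrete ι) B] [PreservesColimitsOfShape (Discrete ι) F]
    (hacy : ∀ J : ι → A, (∀ i, Injective (J i)) → Acy F (∐ J))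
    (K : ι → DerivedCategory A) (n : ℤ) (hK : ∀ i, (K i).IsGE n) :
    PreservesColimit (Discrete.functor K) (RF F) := by
  have key : ∀ i, ∃ I : CochainComplex A ℤ,
      I.IsStrictlyGE n ∧ (∀ q, Injective (I.X q)) ∧ Nonempty (DerivedCategory.Q.obj I ≅ K i) := fun i => by
    obtain ⟨L, _, ⟨e⟩⟩ := DerivedCategory.exists_iso_Q_obj_of_isGE (K i) n (hX := hK i)
    obtain ⟨M, r, hr, hM, hge⟩ := CochainComplex.Plus.modelCategoryQuillen.exists_quasiIso_injective L n
    exact ⟨M, hge, hM, ⟨(e ≪≫ asIso (DerivedCategory.Q.map r)).symm⟩⟩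
  choose I hI hinj e using key
  let FC := F.mapHomologicalComplex (ComplexShape.up ℤ)
  have : PreservesColimitsOfShape (Discrete ι) FC :=
    HomologicalComplex.preservesColimitsOfShape_of_eval FC fun i =>
      inferInstanceAs (PreservesColimitsOfShape (Discrete ι)
        (HomologicalComplex.eval A (ComplexShape.up ℤ) i ⋙ F))
  have hcol : ∀ q, IsColimit (Cofan.mk ((∐ I).X q) fun i => (Sigma.ι I i).f q) := fun q =>
    isColimitCofanMkObjOfIsColimit (HomologicalComplex.eval _ (ComplexShape.up ℤ) q) I _
      (coproductIsCoproduct I)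
  have hge : (∐ I).IsStrictlyGE n := by
    rw [CochainComplex.isStrictlyGE_iff]
    intro q hq
    rw [IsZero.iff_id_eq_zero]
    exact Cofan.IsColimit.hom_ext (hcol q) _ _ fun i =>
      (have := hI i; ((I i).isZero_of_isStrictlyGE n q hq).eq_of_src _ _)
  have hac : ∀ q, Acy F ((∐ I).X q) := fun q =>
    acy_of_iso ((coproductIsCoproduct fun i => (I i).X q).coconePointUniqueUpToIso (hcol q))
      (hacy _ fun i => hinj i q)
  have hS := isIso_θ_of_isStrictlyGE F (∐ I) n hac
  have hIi : ∀ i, IsIso ((θ F).app (I i)) := fun i =>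
    have := hI i
    isIso_θ_of_isStrictlyGE F (I i) n fun q => have := hinj i q; acy_of_injective _
  obtain ⟨hc⟩ := nonempty_isColimit_Q' I
  obtain ⟨h₁⟩ := nonempty_isColimit_Q' (fun i => FC.obj (I i))
  let eP := (coproductIsCoproduct fun i => FC.obj (I i)).coconePointUniqueUpToIso
    (isColimitCofanMkObjOfIsColimit FC I _ (coproductIsCoproduct I))
  have h₃ : IsColimit (Cofan.mk ((FC ⋙ DerivedCategory.Q).obj (∐ I))
      fun i => (FC ⋙ DerivedCategory.Q).map (Sigma.ι I i)) :=
    h₁.ofIsoColimit (Cocone.ext (DerivedCategory.Q.mapIso eP) (fun ⟨i⟩ => by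
      change DerivedCategory.Q.map _ ≫ DerivedCategory.Q.map eP.hom = _
      rw [← DerivedCategory.Q.map_comp]
      exact congrArg DerivedCategory.Q.map ((coproductIsCoproduct fun i => FC.obj (I i)).comp_coconePointUniqueUpToIso_hom _ ⟨i⟩)))
  have : PreservesColimit (Discrete.functor fun i => DerivedCategory.Q.obj (I i)) (RF F) := by
    refine preservesColimit_of_preserves_colimit_cocone hc ?_
    refine (isColimitMapCoconeCofanMkEquiv (RF F) (fun i => DerivedCategory.Q.obj (I i)) _).symm ?_
    let w : Discrete.functor (fun i => (FC ⋙ DerivedCategory.Q).obj (I i)) ≅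
        Discrete.functor fun i => (RF F).obj (DerivedCategory.Q.obj (I i)) :=
      Discrete.natIso fun i => @asIso _ _ _ _ ((θ F).app (I i.as)) (hIi i.as)
    refine IsColimit.equivOfNatIsoOfIso w _
      (Cofan.mk ((RF F).obj (DerivedCategory.Q.obj (∐ I))) fun i => (RF F).map (DerivedCategory.Q.map (Sigma.ι I i))) ?_ h₃
    exact (Cocone.ext (@asIso _ _ _ _ ((θ F).app (∐ I)) hS) (fun ⟨i⟩ => by
        dsimp
        rw [Category.assoc]
        have := hIi i
        exact (IsIso.inv_comp_eq _).2 ((θ F).naturality (Sigma.ι I i))))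
  exact preservesColimit_of_iso_diagram (RF F)
    (Discrete.natIso fun i => (e i.as).some :
      (Discrete.functor fun i => DerivedCategory.Q.obj (I i)) ≅ Discrete.functor K)

end Groth.Agent.EtCoprodGE
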